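import Mathlib

/-!
# Local data of `²F₄(2)` at the prime five (helper438, for S4819 / S4820)

`Loc N P x j r` : `N` is the subgroup of index two (the Tits group), `x ∈ N` of order 5, `j ∉ N` of order 4 commuting with
`x`, `r ∈ N` commuting with `j` and `r x r⁻¹ = x²`, `P ≤ N` the Sylow 5-subgroup (order 25).
-/

set_option autoImplicit false

namespace Cfsg.Agent.H438.TI

open Subgroup

/-- the local data -/
structure Loc {G : Type*} [Group G] (N P : Subgroup G) (x j r : G) : Prop where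
  index : N.index = 2
  xN : x ∈ N
  ox : orderOf x = 5
  jN : j ∉ N
  oj : orderOf j = 4
  comm : x * j = j * x
  rN : r ∈ N
  rx : r * x * r⁻¹ = x ^ 2
  rj : r * j = j * r
  cent : ∀ g : G, g * x = x * g → g * (j * j) = (j * j) * g → ∃ k l : ℕ, g = x ^ k * j ^ l
  c50 : Nat.card ↥(centralizer ({x} : Set G) ⊓ N) = 50
  P_le : P ≤ N
  P_card : Nat.card P = 25
  P_fus : ∀ y ∈ P, y ≠ 1 → ∃ g ∈ N, g * x * g⁻¹ = y

end Cfsg.Agent.H438.TI
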