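import Mathlib
import Cfsg.Agent.Characters.Core
import Cfsg.Agent.Characters.Linear
import Cfsg.Agent.Characters.Clifford
import Cfsg.Agent.SmallSimple.InvolPairs
import Cfsg.Agent.H438.TI.Loc

/-!
# Integrality of character values at `x y`, `x` of order 5 rational (helper438)

* `int_of` : `∑_{t < 4} φ(x y^t) μ^(-t) ∈ 4 ℤ` for a character `φ`, `y^4 = 1`, `μ^4 = 1`, if some `r` centralises `y` and
  `r x r⁻¹ = x²`;
* `quad` : the four integers of a character;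
* `classify` : the sixteen characters of the Tits group outside the blocks of defect zero.
-/

set_option autoImplicit false

namespace Cfsg.Agent.H438.TI

open Cfsg Subgroup Cfsg.Agent.Characters.Core
open scoped ComplexConjugate

universe u

variable {G : Type u} [Group G]

/-- the homomorphism `ZMod n → G` of an element `g` with `g^n = 1` -/
def pw (n : ℕ) [NeZero n] (g : G) (hg : g ^ n = 1) : Multiplicative (ZMod n) →* G where
  toFun s := g ^ (s.toAdd.val)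
  map_one' := by simp
  map_mul' a b := by
    rw [toAdd_mul, ZMod.val_add, ← pow_add]
    exact (pow_mod_natCard' g n hg _).symm
where
  pow_mod_natCard' (g : G) (n : ℕ) (hg : g ^ n = 1) (k : ℕ) : g ^ k = g ^ (k % n) := by
    conv_lhs => rw [← Nat.div_add_mod k n, pow_add, pow_mul, hg, one_pow, one_mul]

theorem sum_zmod (n : ℕ) [NeZero n] (F : ℕ → ℂ) :
    ∑ s : Multiplicative (ZMod n), F (s.toAdd.val) = ∑ k ∈ Finset.range n, F k := by
  rw [← Multiplicative.ofAdd.sum_comp (fun s : Multiplicative (ZMod n) => F (s.toAdd.val))]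
  simp only [toAdd_ofAdd]
  cases n with
  | zero => exact absurd rfl (NeZero.ne 0)
  | succ m => exact Fin.sum_univ_eq_sum_range F (m + 1)

theorem nat_sum {φ : G → ℂ} (hφ : IsCharacter G φ) {x y : G} (hx : x ^ 5 = 1) (hy : y ^ 4 = 1) (hxy : x * y = y * x)
    {ω μ : ℂ} (hω : ω ^ 5 = 1) (hμ : μ ^ 4 = 1) :
    ∃ n : ℕ, ∑ k ∈ Finset.range 5, ∑ t ∈ Finset.range 4, φ (x ^ k * y ^ t) * conj (ω ^ k * μ ^ t) = 20 * n := by
  classical
  have hω0 : ω ≠ 0 := by
    rintro rfl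
    norm_num at hω
  have hμ0 : μ ≠ 0 := by
    rintro rfl
    norm_num at hμ
  let ωu : ℂˣ := Units.mk0 ω hω0
  let μu : ℂˣ := Units.mk0 μ hμ0
  have hωu : ωu ^ 5 = 1 := Units.ext (by simpa [ωu] using hω)
  have hμu : μu ^ 4 = 1 := Units.ext (by simpa [μu] using hμ)
  let f : Multiplicative (ZMod 5) × Multiplicative (ZMod 4) →* G :=
    MonoidHom.noncommCoprod (pw 5 x hx) (pw 4 y hy) (fun a b => (show Commute x y from hxy).pow_pow _ _)
  let l : Multiplicative (ZMod 5) × Multiplicative (ZMod 4) →* ℂˣ :=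
    MonoidHom.coprod (pw 5 ωu hωu) (pw 4 μu hμu)
  have hf : ∀ a b, f (a, b) = x ^ (a.toAdd.val) * y ^ (b.toAdd.val) := fun a b => rfl
  have hl : ∀ a b, ((l (a, b) : ℂˣ) : ℂ) = ω ^ (a.toAdd.val) * μ ^ (b.toAdd.val) := fun a b => by
    have h1 : l (a, b) = ωu ^ (a.toAdd.val) * μu ^ (b.toAdd.val) := rfl
    rw [h1]
    simp [ωu, μu]
  obtain ⟨n, hn⟩ := classInner_isNat (isCharacter_comp f hφ) (Cfsg.Agent.Characters.Linear.isCharacter_hom l)
  refine ⟨n, ?_⟩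
  rw [classInner_def, Fintype.sum_prod_type] at hn
  have hcard : (Nat.card (Multiplicative (ZMod 5) × Multiplicative (ZMod 4)) : ℂ) = 20 := by
    rw [Nat.card_prod]
    simp [Nat.card_eq_fintype_card, ZMod.card]
  rw [hcard] at hn
  have h3 : ∑ a : Multiplicative (ZMod 5), ∑ b : Multiplicative (ZMod 4),
      (φ ∘ f) (a, b) * conj ((l (a, b) : ℂˣ) : ℂ) =
      ∑ k ∈ Finset.range 5, ∑ t ∈ Finset.range 4, φ (x ^ k * y ^ t) * conj (ω ^ k * μ ^ t) := by
    rw [← sum_zmod 5]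
    refine Finset.sum_congr rfl fun a _ => ?_
    rw [← sum_zmod 4]
    refine Finset.sum_congr rfl fun b _ => ?_
    rw [Function.comp_apply, hf, hl]
  rw [h3] at hn
  rw [← hn]
  ring

theorem int_of {φ : G → ℂ} (hφ : IsCharacter G φ) {x y r : G} (hx : x ^ 5 = 1) (hy : y ^ 4 = 1) (hxy : x * y = y * x)
    (hr : r * x * r⁻¹ = x ^ 2) (hry : r * y = y * r) {μ : ℂ} (hμ : μ ^ 4 = 1) :
    ∃ n : ℤ, ∑ t ∈ Finset.range 4, φ (x * y ^ t) * conj (μ ^ t) = 4 * n := by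
  classical
  set ω : ℂ := Complex.exp (2 * Real.pi * Complex.I / (5 : ℕ)) with hωdef
  have hprim : IsPrimitiveRoot ω 5 := Complex.isPrimitiveRoot_exp 5 (by norm_num)
  obtain ⟨n1, h1⟩ := nat_sum hφ hx hy hxy (one_pow 5) hμ
  obtain ⟨n2, h2⟩ := nat_sum hφ hx hy hxy hprim.pow_eq_one hμ
  have hcl := isCharacter_isClassFunction hφ
  have hS : ∀ k : ℕ, ∑ t ∈ Finset.range 4, φ (x ^ (2 * k) * y ^ t) * conj (μ ^ t) =
      ∑ t ∈ Finset.range 4, φ (x ^ k * y ^ t) * conj (μ ^ t) := by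
    intro k
    refine Finset.sum_congr rfl fun t _ => ?_
    congr 1
    rw [← hcl (x ^ k * y ^ t) r]
    congr 1
    have h3 : r * (x ^ k * y ^ t) * r⁻¹ = (r * x * r⁻¹) ^ k * (r * y * r⁻¹) ^ t := by
      rw [conj_pow, conj_pow]
      group
    rw [h3, hr, hry, mul_inv_cancel_right, ← pow_mul]
  set S : ℕ → ℂ := fun k => ∑ t ∈ Finset.range 4, φ (x ^ k * y ^ t) * conj (μ ^ t) with hSdef
  have e2 : S 2 = S 1 := hS 1
  have e4 : S 4 = S 2 := hS 2
  have e3 : S 3 = S 4 := by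
    have h3 : S 8 = S 4 := hS 4
    rw [← h3]
    have h4 : x ^ 8 = x ^ 3 := by
      rw [show 8 = 5 + 3 from rfl, pow_add, hx, one_mul]
    show ∑ t ∈ Finset.range 4, φ (x ^ 3 * y ^ t) * conj (μ ^ t) = ∑ t ∈ Finset.range 4, φ (x ^ 8 * y ^ t) * conj (μ ^ t)
    rw [h4]
  have hgen : ∀ w : ℂ, ∑ k ∈ Finset.range 5, ∑ t ∈ Finset.range 4, φ (x ^ k * y ^ t) * conj (w ^ k * μ ^ t) =
      ∑ k ∈ Finset.range 5, S k * conj (w ^ k) := by
    intro w
    refine Finset.sum_congr rfl fun k _ => ?_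
    rw [hSdef, Finset.sum_mul]
    refine Finset.sum_congr rfl fun t _ => ?_
    rw [map_mul]
    ring
  rw [hgen] at h1 h2
  have hgeom : ∑ k ∈ Finset.range 5, conj (ω ^ k) = 0 := by
    rw [← map_sum, hprim.geom_sum_eq_zero (by norm_num), map_zero]
  simp only [Finset.sum_range_succ, Finset.sum_range_zero, zero_add, e2, e3, e4] at h1 h2 hgeom
  simp only [one_pow, map_one, mul_one, pow_zero] at h1 h2 hgeom
  have hfin : S 1 = 4 * ((n1 : ℤ) - (n2 : ℤ) : ℤ) := by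
    push_cast
    linear_combination (1 / 5 : ℂ) * h1 - (1 / 5 : ℂ) * h2 + (1 / 5 : ℂ) * S 1 * hgeom
  refine ⟨(n1 : ℤ) - n2, ?_⟩
  rw [← hfin]
  show _ = ∑ t ∈ Finset.range 4, φ (x ^ 1 * y ^ t) * conj (μ ^ t)
  rw [pow_one]

theorem quad {φ : G → ℂ} (hφ : IsCharacter G φ) {x y r : G} (hx : x ^ 5 = 1) (hy : y ^ 4 = 1) (hxy : x * y = y * x)
    (hr : r * x * r⁻¹ = x ^ 2) (hry : r * y = y * r) :
    ∃ a b c d : ℤ, φ x = a + b + c + d ∧ φ (x * y) = (a - c : ℤ) + (b - d : ℤ) * Complex.I ∧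
      φ (x * y ^ 2) = a - b + c - d ∧ φ (x * y ^ 3) = (a - c : ℤ) - (b - d : ℤ) * Complex.I := by
  have hI4 : Complex.I ^ 4 = 1 := Complex.I_pow_four
  obtain ⟨a, ha⟩ := int_of hφ hx hy hxy hr hry (one_pow 4)
  obtain ⟨b, hb⟩ := int_of hφ hx hy hxy hr hry hI4
  obtain ⟨c, hc⟩ := int_of hφ hx hy hxy hr hry (show (-1 : ℂ) ^ 4 = 1 by norm_num)
  obtain ⟨d, hd⟩ := int_of hφ hx hy hxy hr hry (show (-Complex.I) ^ 4 = 1 by rw [neg_pow, hI4]; norm_num)
  simp only [Finset.sum_range_succ, Finset.sum_range_zero, zero_add, pow_zero, pow_one, map_one, mul_one, map_pow,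
    map_neg, Complex.conj_I, neg_neg] at ha hb hc hd
  have hI2 : Complex.I ^ 2 = -1 := Complex.I_sq
  have hI3 : Complex.I ^ 3 = -Complex.I := by rw [pow_succ, hI2]; ring
  have hn2 : (-Complex.I) ^ 2 = -1 := by rw [neg_sq, hI2]
  have hn3 : (-Complex.I) ^ 3 = Complex.I := by rw [pow_succ, hn2]; ring
  rw [hn2, hn3] at hb
  rw [hI2, hI3] at hd
  refine ⟨a, b, c, d, ?_, ?_, ?_, ?_⟩
  · linear_combination (1 / 4 : ℂ) * ha + (1 / 4 : ℂ) * hb + (1 / 4 : ℂ) * hc + (1 / 4 : ℂ) * hd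
  · push_cast
    linear_combination (1 / 4 : ℂ) * ha + (Complex.I / 4) * hb - (1 / 4 : ℂ) * hc - (Complex.I / 4) * hd +
      (φ (x * y) / 2 - φ (x * y ^ 3) / 2) * hI2
  · linear_combination (1 / 4 : ℂ) * ha - (1 / 4 : ℂ) * hb + (1 / 4 : ℂ) * hc - (1 / 4 : ℂ) * hd
  · push_cast
    linear_combination (1 / 4 : ℂ) * ha - (Complex.I / 4) * hb - (1 / 4 : ℂ) * hc + (Complex.I / 4) * hd +
      (-φ (x * y) / 2 + φ (x * y ^ 3) / 2) * hI2

theorem half {φ : G → ℂ} (hφ : IsCharacter G φ) {x y r : G} (hx : x ^ 5 = 1) (hy : y ^ 2 = 1) (hxy : x * y = y * x)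
    (hr : r * x * r⁻¹ = x ^ 2) (hry : r * y = y * r) :
    ∃ u v : ℤ, φ x = u + v ∧ φ (x * y) = u - v := by
  have hy3 : y ^ 3 = y := by rw [pow_succ, hy, one_mul]
  have hy4 : y ^ 4 = 1 := by rw [show 4 = 2 * 2 from rfl, pow_mul, hy, one_pow]
  obtain ⟨a, ha⟩ := int_of hφ hx hy4 hxy hr hry (one_pow 4)
  obtain ⟨c, hc⟩ := int_of hφ hx hy4 hxy hr hry (show (-1 : ℂ) ^ 4 = 1 by norm_num)
  simp only [Finset.sum_range_succ, Finset.sum_range_zero, zero_add, pow_zero, pow_one, map_one, mul_one, map_pow,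
    map_neg, hy, hy3] at ha hc
  refine ⟨a, c, ?_, ?_⟩
  · linear_combination (1 / 4 : ℂ) * ha + (1 / 4 : ℂ) * hc
  · linear_combination (1 / 4 : ℂ) * ha - (1 / 4 : ℂ) * hc

/-! ### The classification of the sixteen pairs -/

theorem sq_mod8 {a : ℤ} (h : ¬ 2 ∣ a) : ∃ k : ℤ, 0 ≤ k ∧ a ^ 2 = 1 + 8 * k := by
  obtain ⟨m, rfl⟩ : ∃ m, a = 2 * m + 1 := ⟨a / 2, by omega⟩
  obtain ⟨n, hn⟩ : ∃ n, m * (m + 1) = 2 * n := by
    obtain ⟨n, hn⟩ := Int.even_mul_succ_self m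
    exact ⟨n, by rw [hn]; ring⟩
  refine ⟨n, ?_, ?_⟩
  · have h1 : 0 ≤ m * (m + 1) := by
      rcases le_or_gt 0 m with h0 | h0
      · positivity
      · have : m + 1 ≤ 0 := by omega
        nlinarith
    omega
  · linear_combination 4 * hn

theorem sq_even {a : ℤ} (h : 2 ∣ a) (h0 : a ≠ 0) : ∃ k : ℤ, (k = 0 ∨ 3 ≤ k) ∧ a ^ 2 = 4 + 4 * k ∧ (k ≤ 4 → 3 ∣ k) := by
  obtain ⟨m, rfl⟩ := h
  have hm : m ≠ 0 := by rintro rfl; exact h0 rfl
  refine ⟨m ^ 2 - 1, ?_, by ring, ?_⟩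
  · have h1 : 1 ≤ m ^ 2 := by
      have := sq_pos_of_ne_zero hm
      omega
    by_cases h2 : m ^ 2 = 1
    · left; omega
    · right
      have h3 : 2 ≤ |m| := by
        by_contra hlt
        push Not at hlt
        have : |m| = 1 := le_antisymm (by omega) (Int.one_le_abs hm)
        apply h2
        rw [← sq_abs, this]; norm_num
      have h4 : 4 ≤ m ^ 2 := by
        rw [← sq_abs]; nlinarith
      omega
  · intro h5
    have h6 : |m| ≤ 2 := by
      by_contra hlt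
      push Not at hlt
      have h7 : 9 ≤ m ^ 2 := by
        rw [← sq_abs]; nlinarith
      omega
    have h7 : m = 1 ∨ m = -1 ∨ m = 2 ∨ m = -2 := by
      have := abs_le.1 h6
      omega
    rcases h7 with rfl | rfl | rfl | rfl <;> norm_num

theorem sq_even4 {b : ℤ} (h : 2 ∣ b) : ∃ k : ℤ, 0 ≤ k ∧ b ^ 2 = 4 * k := by
  obtain ⟨m, rfl⟩ := h
  exact ⟨m ^ 2, sq_nonneg m, by ring⟩

/-- the types of the sixteen characters -/
theorem classify {ι : Type*} [Fintype ι] (a b : ι → ℤ) (h2 : ∀ i, 2 ∣ a i - b i) (ha : ∑ i, a i ^ 2 = 50)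
    (hb : ∑ i, b i ^ 2 = 10) (h16 : Nat.card {i // a i ≠ 0} = 16) :
    ∀ i, a i ≠ 0 → (a i ^ 2 = 1 ∧ b i ^ 2 = 1) ∨ (a i ^ 2 = 4 ∧ b i = 0) ∨ (a i ^ 2 = 9 ∧ b i ^ 2 = 1) := by
  classical
  set O : Finset ι := Finset.univ.filter (fun i => ¬ 2 ∣ a i) with hO
  set E : Finset ι := Finset.univ.filter (fun i => 2 ∣ a i) with hE
  set E0 : Finset ι := E.filter (fun i => a i ≠ 0) with hE0
  have hOE : ∀ f : ι → ℤ, ∑ i, f i = ∑ i ∈ O, f i + ∑ i ∈ E, f i := fun f => by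
    rw [add_comm]
    exact (Finset.sum_filter_add_sum_filter_not Finset.univ (fun i => 2 ∣ a i) f).symm
  have hEE : ∀ f : ι → ℤ, (∀ i, a i = 0 → f i = 0) → ∑ i ∈ E, f i = ∑ i ∈ E0, f i := fun f hf => by
    exact (Finset.sum_filter_of_ne (s := E) (p := fun i => a i ≠ 0) (f := f) (fun i _ hi h0 => hi (hf i h0))).symm
  have hc16 : O.card + E0.card = 16 := by
    rw [← h16, Nat.card_eq_fintype_card, Fintype.card_subtype, ← Finset.card_union_of_disjoint]
    · congr 1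
      ext i
      simp only [hO, hE0, hE, Finset.mem_union, Finset.mem_filter, Finset.mem_univ, true_and]
      constructor
      · rintro (h | h)
        · rintro h0
          exact h (by rw [h0]; exact dvd_zero 2)
        · exact h.2
      · intro h
        by_cases h' : 2 ∣ a i
        · exact Or.inr ⟨h', h⟩
        · exact Or.inl h'
    · rw [Finset.disjoint_left]
      intro i h1 h3
      simp only [hO, hE0, hE, Finset.mem_filter, Finset.mem_univ, true_and] at h1 h3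
      exact h1 h3.1
  -- the integers `k`, `l` with `a² = 1 + 8k` on `O`, `4 + 4k` on `E0`; `b² = 1 + 8l` on `O`, `4 l` on `E`
  have hko : ∀ i : ι, ∃ k : ℤ, i ∈ O → 0 ≤ k ∧ a i ^ 2 = 1 + 8 * k := fun i => by
    by_cases h : i ∈ O
    · obtain ⟨k, hk⟩ := sq_mod8 (Finset.mem_filter.1 h).2
      exact ⟨k, fun _ => hk⟩
    · exact ⟨0, fun h' => absurd h' h⟩
  have hke : ∀ i : ι, ∃ k : ℤ, i ∈ E0 → (k = 0 ∨ 3 ≤ k) ∧ a i ^ 2 = 4 + 4 * k ∧ (k ≤ 4 → 3 ∣ k) := fun i => by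
    by_cases h : i ∈ E0
    · have h' := Finset.mem_filter.1 h
      obtain ⟨k, hk⟩ := sq_even (Finset.mem_filter.1 h'.1).2 h'.2
      exact ⟨k, fun _ => hk⟩
    · exact ⟨0, fun h' => absurd h' h⟩
  have hlo : ∀ i : ι, ∃ k : ℤ, i ∈ O → 0 ≤ k ∧ b i ^ 2 = 1 + 8 * k := fun i => by
    by_cases h : i ∈ O
    · obtain ⟨k, hk⟩ := sq_mod8 (a := b i) (fun h3 => (Finset.mem_filter.1 h).2 (by have := h2 i; omega))
      exact ⟨k, fun _ => hk⟩
    · exact ⟨0, fun h' => absurd h' h⟩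
  have hle : ∀ i : ι, ∃ k : ℤ, i ∈ E → 0 ≤ k ∧ b i ^ 2 = 4 * k := fun i => by
    by_cases h : i ∈ E
    · obtain ⟨k, hk⟩ := sq_even4 (b := b i) (by have := h2 i; have := (Finset.mem_filter.1 h).2; omega)
      exact ⟨k, fun _ => hk⟩
    · exact ⟨0, fun h' => absurd h' h⟩
  choose ko hko using hko
  choose ke hke using hke
  choose lo hlo using hlo
  choose le hle using hle
  have sa : ∑ i, a i ^ 2 = O.card + 8 * ∑ i ∈ O, ko i + 4 * E0.card + 4 * ∑ i ∈ E0, ke i := by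
    rw [hOE, hEE (fun i => a i ^ 2) (fun i h => by rw [h]; norm_num)]
    rw [Finset.sum_congr rfl fun i hi => (hko i hi).2, Finset.sum_congr rfl fun i hi => (hke i hi).2.1,
      Finset.sum_add_distrib, Finset.sum_add_distrib, ← Finset.mul_sum, ← Finset.mul_sum, Finset.sum_const,
      Finset.sum_const]
    simp only [nsmul_eq_mul, mul_one]
    ring
  have sb : ∑ i, b i ^ 2 = O.card + 8 * ∑ i ∈ O, lo i + 4 * ∑ i ∈ E, le i := by
    rw [hOE]
    rw [Finset.sum_congr rfl fun i hi => (hlo i hi).2, Finset.sum_congr rfl fun i hi => (hle i hi).2,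
      Finset.sum_add_distrib, ← Finset.mul_sum, ← Finset.mul_sum, Finset.sum_const]
    simp only [nsmul_eq_mul, mul_one]
  have p1 : 0 ≤ ∑ i ∈ O, ko i := Finset.sum_nonneg fun i hi => (hko i hi).1
  have p2 : 0 ≤ ∑ i ∈ E0, ke i := Finset.sum_nonneg fun i hi => by have := (hke i hi).1; omega
  have p3 : 0 ≤ ∑ i ∈ O, lo i := Finset.sum_nonneg fun i hi => (hlo i hi).1
  have p4 : 0 ≤ ∑ i ∈ E, le i := Finset.sum_nonneg fun i hi => (hle i hi).1
  rw [sa] at ha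
  rw [sb] at hb
  have hke4 : ∀ i ∈ E0, ke i ≤ ∑ i ∈ E0, ke i := fun i hi =>
    Finset.single_le_sum (f := ke) (fun i hi => by have := (hke i hi).1; omega) hi
  have h3 : (∑ i ∈ E0, ke i ≤ 4) → 3 ∣ ∑ i ∈ E0, ke i := fun h =>
    Finset.dvd_sum fun i hi => (hke i hi).2.2 ((hke4 i hi).trans h)
  have hOcard : O.card = 10 := by omega
  have z1 : ∑ i ∈ E0, ke i = 0 := by omega
  have z2 : ∑ i ∈ O, lo i = 0 := by omega
  have z3 : ∑ i ∈ E, le i = 0 := by omega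
  have z4 : ∑ i ∈ O, ko i = 2 := by omega
  have hb0 : ∀ i ∈ O, b i ^ 2 = 1 := fun i hi => by
    have := (Finset.sum_eq_zero_iff_of_nonneg fun i hi => (hlo i hi).1).1 z2 i hi
    rw [(hlo i hi).2, this]; norm_num
  have hb1 : ∀ i ∈ E, b i = 0 := fun i hi => by
    have := (Finset.sum_eq_zero_iff_of_nonneg fun i hi => (hle i hi).1).1 z3 i hi
    have h5 := (hle i hi).2
    rw [this, mul_zero] at h5
    exact pow_eq_zero_iff (two_ne_zero) |>.1 h5
  intro i hi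
  by_cases h : 2 ∣ a i
  · right; left
    have hiE : i ∈ E := Finset.mem_filter.2 ⟨Finset.mem_univ i, h⟩
    have hiE0 : i ∈ E0 := Finset.mem_filter.2 ⟨hiE, hi⟩
    have h6 := hke4 i hiE0
    have h7 := (hke i hiE0).1
    refine ⟨?_, hb1 i hiE⟩
    rw [(hke i hiE0).2.1]
    omega
  · have hiO : i ∈ O := Finset.mem_filter.2 ⟨Finset.mem_univ i, h⟩
    have h6 : ko i ≤ 2 := by
      rw [← z4]
      exact Finset.single_le_sum (f := ko) (fun i hi => (hko i hi).1) hiO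
    have h7 := (hko i hiO).1
    have h8 := (hko i hiO).2
    have h9 : ko i ≠ 2 := by
      intro h10
      rw [h10] at h8
      have h11 : a i ^ 2 = 17 := by omega
      have h12 : |a i| ≤ 4 := by
        by_contra hlt
        push Not at hlt
        have : 25 ≤ a i ^ 2 := by
          rw [← sq_abs]; nlinarith
        omega
      have h13 := abs_le.1 h12
      have : a i = -4 ∨ a i = -3 ∨ a i = -2 ∨ a i = -1 ∨ a i = 0 ∨ a i = 1 ∨ a i = 2 ∨ a i = 3 ∨ a i = 4 := by omega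
      rcases this with h | h | h | h | h | h | h | h | h <;> rw [h] at h11 <;> norm_num at h11
    rcases (show ko i = 0 ∨ ko i = 1 by omega) with h0 | h0
    · left
      refine ⟨?_, hb0 i hiO⟩
      rw [h8, h0]; norm_num
    · right; right
      refine ⟨?_, hb0 i hiO⟩
      rw [h8, h0]; norm_num

end Cfsg.Agent.H438.TI
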