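import Mathlib
import Cfsg.Agent.H438.TI.Int

/-!
# The group theory of `Loc` (helper438)

The centralizers of `x j` (order 20 in `G`), `x z` (order 10 in `N`), `x` (order 50 in `N`); `x j` is not conjugate to its
inverse; the sum of a character over `P`.
-/

set_option autoImplicit false

namespace Cfsg.Agent.H438.TI

open Subgroup

universe u

variable {G : Type u} [Group G] {N P : Subgroup G} {x j r : G}

namespace Loc

theorem zN (L : Loc N P x j r) : j ^ 2 ∈ N := by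
  rw [pow_two]
  exact Subgroup.mul_self_mem_of_index_two L.index j

theorem x5 (L : Loc N P x j r) : x ^ 5 = 1 := by rw [← L.ox]; exact pow_orderOf_eq_one x

theorem j4 (L : Loc N P x j r) : j ^ 4 = 1 := by rw [← L.oj]; exact pow_orderOf_eq_one j

theorem j2_ne (L : Loc N P x j r) : j ^ 2 ≠ 1 := fun h => by
  have h1 := orderOf_dvd_of_pow_eq_one h
  rw [L.oj] at h1
  norm_num at h1

theorem cxj (L : Loc N P x j r) : Commute x j := L.comm

theorem pow5 (L : Loc N P x j r) : (x * j) ^ 5 = j := by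
  rw [L.cxj.mul_pow, L.x5, one_mul, show 5 = 4 + 1 from rfl, pow_add, L.j4, one_mul, pow_one]

theorem pow16 (L : Loc N P x j r) : (x * j) ^ 16 = x := by
  rw [L.cxj.mul_pow, show 16 = 5 * 3 + 1 from rfl, pow_add x, pow_mul x, L.x5, one_pow, one_mul, pow_one,
    show 5 * 3 + 1 = 4 * 4 from rfl, pow_mul j, L.j4, one_pow, mul_one]

theorem order (L : Loc N P x j r) : orderOf (x * j) = 20 := by
  rw [L.cxj.orderOf_mul_eq_mul_orderOf_of_coprime (by rw [L.ox, L.oj]; norm_num), L.ox, L.oj]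

theorem xj_notMem (L : Loc N P x j r) : x * j ∉ N := fun h => L.jN ((N.mul_mem_cancel_left L.xN).1 h)

/-- `g` commutes with `x` and with `z` iff it is a power of `x j` -/
theorem mem_zp (L : Loc N P x j r) {g : G} : (g * x = x * g ∧ g * j ^ 2 = j ^ 2 * g) ↔ g ∈ zpowers (x * j) := by
  constructor
  · rintro ⟨h1, h2⟩
    rw [pow_two] at h2
    obtain ⟨k, l, rfl⟩ := L.cent g h1 h2
    have hx : x ∈ zpowers (x * j) := by
      have h3 : (x * j) ^ 16 ∈ zpowers (x * j) := pow_mem (mem_zpowers _) 16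
      rwa [L.pow16] at h3
    have hj : j ∈ zpowers (x * j) := by
      have h3 : (x * j) ^ 5 ∈ zpowers (x * j) := pow_mem (mem_zpowers _) 5
      rwa [L.pow5] at h3
    exact mul_mem (pow_mem hx k) (pow_mem hj l)
  · intro h
    obtain ⟨k, rfl⟩ := mem_zpowers_iff.1 h
    have h1 : Commute (x * j) x := (Commute.refl x).mul_left L.cxj.symm
    have h2 : Commute (x * j) j := L.cxj.mul_left (Commute.refl j)
    exact ⟨(h1.zpow_left k), ((h2.pow_right 2).zpow_left k)⟩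

theorem comm_j (L : Loc N P x j r) {g : G} (h1 : g * x = x * g) (h2 : g * j ^ 2 = j ^ 2 * g) : g * j = j * g := by
  obtain ⟨k, rfl⟩ := mem_zpowers_iff.1 (L.mem_zp.1 ⟨h1, h2⟩)
  have h3 : Commute (x * j) j := L.cxj.mul_left (Commute.refl j)
  exact h3.zpow_left k

theorem conj_pow5 (L : Loc N P x j r) {g y : G} (h : g * (x * j) * g⁻¹ = y) : g * j * g⁻¹ = y ^ 5 := by
  rw [← h, conj_pow, L.pow5]

theorem conj_pow16 (L : Loc N P x j r) {g y : G} (h : g * (x * j) * g⁻¹ = y) : g * x * g⁻¹ = y ^ 16 := by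
  rw [← h, conj_pow, L.pow16]

theorem card_cent_xj (L : Loc N P x j r) : Nat.card {g : G // g * (x * j) * g⁻¹ = x * j} = 20 := by
  rw [← L.order, ← Nat.card_zpowers]
  refine Nat.card_congr (Equiv.subtypeEquivRight fun g => ?_)
  rw [← L.mem_zp]
  constructor
  · intro h
    have h1 := L.conj_pow16 h
    have h2 := L.conj_pow5 h
    rw [L.pow16] at h1
    rw [L.pow5] at h2
    refine ⟨mul_inv_eq_iff_eq_mul.1 h1, ?_⟩
    exact (show Commute g j from mul_inv_eq_iff_eq_mul.1 h2).pow_right 2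
  · rintro ⟨h1, h2⟩
    have h3 := L.comm_j h1 h2
    exact mul_inv_eq_iff_eq_mul.2 ((show Commute g x from h1).mul_right h3)

theorem no_inv (L : Loc N P x j r) : IsEmpty {g : G // g * (x * j) * g⁻¹ = (x * j)⁻¹} := by
  refine ⟨fun ⟨g, hg⟩ => ?_⟩
  have h1 := L.conj_pow16 hg
  have h2 := L.conj_pow5 hg
  rw [inv_pow, L.pow16] at h1
  rw [inv_pow, L.pow5] at h2
  have hr2 : r ^ 2 * x * (r ^ 2)⁻¹ = x⁻¹ := by
    have h3 : r ^ 2 * x * (r ^ 2)⁻¹ = r * (r * x * r⁻¹) * r⁻¹ := by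
      rw [pow_two, mul_inv_rev]
      simp only [mul_assoc]
    rw [h3, L.rx, ← conj_pow, L.rx, ← pow_mul, eq_inv_iff_mul_eq_one, ← pow_succ]
    exact L.x5
  have hrj : r ^ 2 * j * (r ^ 2)⁻¹ = j := by
    have h3 : Commute r j := L.rj
    exact mul_inv_eq_iff_eq_mul.2 (h3.pow_left 2)
  set h : G := (r ^ 2)⁻¹ * g with hh
  have e1 : h * x * h⁻¹ = x := by
    have h3 : h * x * h⁻¹ = (r ^ 2)⁻¹ * (g * x * g⁻¹) * r ^ 2 := by rw [hh]; group
    rw [h3, h1, ← hr2]
    group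
  have e2 : h * j * h⁻¹ = j⁻¹ := by
    have h3 : h * j * h⁻¹ = (r ^ 2)⁻¹ * (g * j * g⁻¹) * r ^ 2 := by rw [hh]; group
    rw [h3, h2]
    have h5 : Commute (r ^ 2) j := mul_inv_eq_iff_eq_mul.1 hrj
    rw [(h5.inv_inv).eq, mul_assoc, inv_mul_cancel, mul_one]
  have e3 : h * j ^ 2 = j ^ 2 * h := by
    refine mul_inv_eq_iff_eq_mul.1 ?_
    rw [← conj_pow, e2, inv_pow, inv_eq_iff_mul_eq_one, ← pow_add]
    exact L.j4
  have e4 := L.comm_j (mul_inv_eq_iff_eq_mul.1 e1) e3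
  have e5 : h * j * h⁻¹ = j := mul_inv_eq_iff_eq_mul.2 e4
  rw [e2] at e5
  apply L.j2_ne
  rw [pow_two]
  calc j * j = j⁻¹ * j := by rw [e5]
    _ = 1 := inv_mul_cancel j

/-- the elements of `N` -/
def xn (L : Loc N P x j r) : N := ⟨x, L.xN⟩
/-- the elements of `N` -/
def zn (L : Loc N P x j r) : N := ⟨j ^ 2, L.zN⟩
/-- the elements of `N` -/
def rn (L : Loc N P x j r) : N := ⟨r, L.rN⟩

theorem card_cent_x (L : Loc N P x j r) : Nat.card {g : N // g * L.xn * g⁻¹ = L.xn} = 50 := by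
  rw [← L.c50]
  refine Nat.card_congr ⟨fun g => ⟨g.1.1, ?_, g.1.2⟩, fun g => ⟨⟨g.1, g.2.2⟩, ?_⟩, fun g => rfl, fun g => rfl⟩
  · have h := congrArg Subtype.val g.2
    exact mem_centralizer_singleton_iff.2 (mul_inv_eq_iff_eq_mul.1 h)
  · exact Subtype.ext (mul_inv_eq_iff_eq_mul.2 (mem_centralizer_singleton_iff.1 g.2.1))

theorem card_cent_xz (L : Loc N P x j r) : Nat.card {g : N // g * (L.xn * L.zn) * g⁻¹ = L.xn * L.zn} = 10 := by
  have hodd : ∀ k : ℕ, (x * j) ^ (2 * k) ∈ N := fun k => by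
    rw [pow_mul]
    refine pow_mem ?_ k
    rw [pow_two]
    exact Subgroup.mul_self_mem_of_index_two L.index _
  have h10 : Nat.card ↥(zpowers ((x * j) ^ 2)) = 10 := by
    rw [Nat.card_zpowers, orderOf_pow' _ two_ne_zero, L.order]
    norm_num
  rw [← h10]
  have hpx : (x * j ^ 2) ^ 6 = x := by
    rw [(L.cxj.pow_right 2).mul_pow, show 6 = 5 + 1 from rfl, pow_add x, L.x5, one_mul, pow_one, ← pow_mul,
      show 2 * (5 + 1) = 4 * 3 from rfl, pow_mul, L.j4, one_pow, mul_one]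
  have hpz : (x * j ^ 2) ^ 5 = j ^ 2 := by
    rw [(L.cxj.pow_right 2).mul_pow, L.x5, one_mul, ← pow_mul, show 2 * 5 = 4 * 2 + 2 from rfl, pow_add, pow_mul,
      L.j4, one_pow, one_mul]
  have key : ∀ g : G, g ∈ N → g * (x * j ^ 2) * g⁻¹ = x * j ^ 2 → g ∈ zpowers ((x * j) ^ 2) := by
    intro g hg h
    have h1 : g * x * g⁻¹ = x := by rw [← hpx, ← conj_pow, h]
    have h2 : g * j ^ 2 * g⁻¹ = j ^ 2 := by rw [← hpz, ← conj_pow, h]
    obtain ⟨n, rfl⟩ := mem_zpowers_iff.1 (L.mem_zp.1 ⟨mul_inv_eq_iff_eq_mul.1 h1, mul_inv_eq_iff_eq_mul.1 h2⟩)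
    rcases Int.even_or_odd' n with ⟨k, hk | hk⟩
    · rw [hk, zpow_mul, zpow_ofNat]
      exact zpow_mem (mem_zpowers _) k
    · exfalso
      apply L.xj_notMem
      have h3 : (x * j) ^ (2 * k) ∈ N := by
        rw [zpow_mul]
        refine zpow_mem ?_ k
        have := hodd 1
        simpa using this
      rw [hk, zpow_add, zpow_one] at hg
      exact (N.mul_mem_cancel_left h3).1 hg
  refine Nat.card_congr ⟨fun g => ⟨g.1.1, key g.1.1 g.1.2 (congrArg Subtype.val g.2)⟩, fun g => ⟨⟨g.1, ?_⟩, ?_⟩,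
    fun g => rfl, fun g => rfl⟩
  · obtain ⟨n, hn⟩ := mem_zpowers_iff.1 g.2
    rw [← hn]
    refine zpow_mem ?_ n
    have := hodd 1
    simpa using this
  · apply Subtype.ext
    show (g : G) * (x * j ^ 2) * (g : G)⁻¹ = x * j ^ 2
    obtain ⟨n, hn⟩ := mem_zpowers_iff.1 g.2
    have h1 : (g : G) ∈ zpowers (x * j) := by
      rw [← hn]
      exact zpow_mem (pow_mem (mem_zpowers _) 2) n
    obtain ⟨h2, h3⟩ := L.mem_zp.2 h1
    exact mul_inv_eq_iff_eq_mul.2 ((show Commute (g : G) x from h2).mul_right h3)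

end Loc

end Cfsg.Agent.H438.TI
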