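import Mathlib
import Cfsg.Agent.H438.TI.Grp
import Cfsg.Agent.S0165

/-!
# Characters of the Tits group at the prime five (helper438)

* `vanish` : characters of defect zero;
* `Loc.degree_zero_iff` : `25 ∣ χ(1)` iff `χ(x) = 0`, for `χ ∈ Irr N`;
* `Loc.parity` : the parity of the value at `x j` of an irreducible character of `G`, irreducible on `N`.
-/

set_option autoImplicit false
set_option linter.unusedSectionVars false

namespace Cfsg.Agent.H438.TI

open Cfsg Subgroup Cfsg.Agent.Characters.Core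
open Cfsg.Agent.SmallSimple.InvolPairs (sum_mul_conj_eq_card)
open scoped ComplexConjugate

universe u

theorem charDegree_of_eq {Γ : Type*} [Group Γ] {χ : Γ → ℂ} {d : ℕ} (h : χ 1 = d) : charDegree χ = d := by
  show ⌊(χ 1).re⌋₊ = d
  rw [h, Complex.natCast_re, Nat.floor_natCast]

theorem eq_charDegree {Γ : Type*} [Group Γ] {χ : Γ → ℂ} (h : IsCharacter Γ χ) : χ 1 = (charDegree χ : ℂ) := by
  obtain ⟨n, hn⟩ := isCharacter_apply_one h
  rw [charDegree_of_eq hn, hn]

/-- characters of defect zero -/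
theorem vanish {Γ : Type*} [Group Γ] [Finite Γ] (hc : 5 ^ 2 ∣ Nat.card Γ) (hc' : ¬ 5 ^ 3 ∣ Nat.card Γ)
    (χ : IrrCharacter Γ) (hd : 25 ∣ charDegree (χ : Γ → ℂ)) {g : Γ} (hg : 5 ∣ orderOf g) : (χ : Γ → ℂ) g = 0 := by
  obtain ⟨n, ρ, hρ, hχ⟩ := χ.2
  have h1 : (χ : Γ → ℂ) 1 = (n : ℂ) := by
    rw [← hχ, Representation.char_one, Module.finrank_fin_fun]
  rw [charDegree_of_eq h1] at hd
  rw [← hχ]
  exact Cfsg.Agent.S0165.result ρ 5 2 (by norm_num) hc hc' (by rw [Module.finrank_fin_fun]; exact hd) g hg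

variable {G : Type u} [Group G] [Finite G] {N P : Subgroup G} {x j r : G}

namespace Loc

theorem order_xn (L : Loc N P x j r) : orderOf L.xn = 5 := by
  rw [← L.ox]
  exact (orderOf_injective N.subtype N.subtype_injective L.xn).symm

theorem cls (L : Loc N P x j r) {χ : N → ℂ} (hχ : IsClassFunction N χ) {y : N} (hy : (y : G) ∈ P) (h1 : y ≠ 1) :
    χ y = χ L.xn := by
  obtain ⟨g, hg, h⟩ := L.P_fus y hy (fun h => h1 (Subtype.ext h))
  rw [← hχ L.xn ⟨g, hg⟩]
  congr 1
  exact Subtype.ext h.symm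

theorem mod25 (L : Loc N P x j r) {χ : N → ℂ} (hχ : IsCharacter N χ) :
    ∃ n : ℕ, χ 1 + 24 * χ L.xn = 25 * n := by
  classical
  have := Fintype.ofFinite P
  obtain ⟨n, hn⟩ := classInner_isNat (isCharacter_comp (Subgroup.inclusion L.P_le) hχ)
    (isCharacter_one (G := P))
  refine ⟨n, ?_⟩
  rw [classInner_def, L.P_card] at hn
  have h1 : ∑ g : P, (χ ∘ Subgroup.inclusion L.P_le) g * conj ((1 : P → ℂ) g) = χ 1 + 24 * χ L.xn := by
    rw [← Finset.add_sum_erase Finset.univ _ (Finset.mem_univ (1 : P))]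
    congr 1
    · simp
    · rw [Finset.sum_congr rfl (g := fun _ => χ L.xn) (fun y hy => ?_)]
      · rw [Finset.sum_const, Finset.card_erase_of_mem (Finset.mem_univ _), Finset.card_univ,
          ← Nat.card_eq_fintype_card, L.P_card]
        simp
      · have hy1 : y ≠ 1 := (Finset.mem_erase.1 hy).1
        simp only [Function.comp_apply, Pi.one_apply, map_one, mul_one]
        refine L.cls (isCharacter_isClassFunction hχ) y.2 fun h => hy1 ?_
        exact Subgroup.inclusion_injective L.P_le (by rw [h, map_one])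
  rw [h1] at hn
  rw [← hn]
  push_cast
  ring

theorem half_n (L : Loc N P x j r) {χ : N → ℂ} (hχ : IsCharacter N χ) :
    ∃ u v : ℤ, χ L.xn = u + v ∧ χ (L.xn * L.zn) = u - v := by
  refine half hχ (x := L.xn) (y := L.zn) (r := L.rn) (Subtype.ext L.x5) (Subtype.ext ?_) (Subtype.ext ?_)
    (Subtype.ext L.rx) (Subtype.ext ?_)
  · show (j ^ 2) ^ 2 = 1
    rw [← pow_mul]
    exact L.j4
  · exact (L.cxj.pow_right 2)
  · exact ((show Commute r j from L.rj).pow_right 2)

theorem card_N_dvd (hN : Nat.card N = 17971200) : 5 ^ 2 ∣ Nat.card N ∧ ¬ 5 ^ 3 ∣ Nat.card N := by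
  rw [hN]
  constructor <;> norm_num

theorem degree_zero_iff (L : Loc N P x j r) (hN : Nat.card N = 17971200) (χ : IrrCharacter N) :
    25 ∣ charDegree (χ : N → ℂ) ↔ (χ : N → ℂ) L.xn = 0 := by
  constructor
  · intro h
    exact vanish (card_N_dvd hN).1 (card_N_dvd hN).2 χ h (by rw [L.order_xn])
  · intro h
    obtain ⟨n, hn⟩ := L.mod25 (isIrr_isCharacter χ.2)
    rw [h, mul_zero, add_zero, eq_charDegree (isIrr_isCharacter χ.2)] at hn
    exact ⟨n, by exact_mod_cast hn⟩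

/-- the classification for `N` -/
theorem types (L : Loc N P x j r) (hN : Nat.card N = 17971200)
    (h16 : Nat.card {χ : IrrCharacter N // ¬ 25 ∣ charDegree (χ : N → ℂ)} = 16) (χ : IrrCharacter N)
    (hd : ¬ 25 ∣ charDegree (χ : N → ℂ)) {u v : ℤ} (h1 : (χ : N → ℂ) L.xn = u + v)
    (h2 : (χ : N → ℂ) (L.xn * L.zn) = u - v) :
    ((u + v) ^ 2 = 1 ∧ (u - v) ^ 2 = 1) ∨ ((u + v) ^ 2 = 4 ∧ u - v = 0) ∨ ((u + v) ^ 2 = 9 ∧ (u - v) ^ 2 = 1) := by
  classical
  have := Fintype.ofFinite N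
  have := finite_irr (G := N)
  have := Fintype.ofFinite (IrrCharacter N)
  choose U V hU hV using fun χ : IrrCharacter N => L.half_n (isIrr_isCharacter χ.2)
  have e1 : ∑ χ : IrrCharacter N, (U χ + V χ) ^ 2 = 50 := by
    have h := sum_mul_conj_eq_card L.xn L.xn
    rw [L.card_cent_x] at h
    have h3 : ∑ χ : IrrCharacter N, (χ : N → ℂ) L.xn * conj ((χ : N → ℂ) L.xn) =
        ((∑ χ : IrrCharacter N, (U χ + V χ) ^ 2 : ℤ) : ℂ) := by
      push_cast
      refine Finset.sum_congr rfl fun χ _ => ?_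
      rw [hU, map_add, map_intCast, map_intCast]
      ring
    rw [h3] at h
    exact_mod_cast h
  have e2 : ∑ χ : IrrCharacter N, (U χ - V χ) ^ 2 = 10 := by
    have h := sum_mul_conj_eq_card (L.xn * L.zn) (L.xn * L.zn)
    rw [L.card_cent_xz] at h
    have h3 : ∑ χ : IrrCharacter N, (χ : N → ℂ) (L.xn * L.zn) * conj ((χ : N → ℂ) (L.xn * L.zn)) =
        ((∑ χ : IrrCharacter N, (U χ - V χ) ^ 2 : ℤ) : ℂ) := by
      push_cast
      refine Finset.sum_congr rfl fun χ _ => ?_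
      rw [hV, map_sub, map_intCast, map_intCast]
      ring
    rw [h3] at h
    exact_mod_cast h
  have e3 : Nat.card {χ : IrrCharacter N // U χ + V χ ≠ 0} = 16 := by
    rw [← h16]
    refine Nat.card_congr (Equiv.subtypeEquivRight fun χ => ?_)
    rw [L.degree_zero_iff hN, hU]
    constructor
    · intro h h3
      exact h (by exact_mod_cast h3)
    · intro h h3
      exact h (by exact_mod_cast h3)
  have h4 := classify (fun χ => U χ + V χ) (fun χ => U χ - V χ) (fun χ => ⟨V χ, by ring⟩) e1 e2 e3 χ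
  have h5 : U χ + V χ = u + v := by
    have : ((U χ + V χ : ℤ) : ℂ) = ((u + v : ℤ) : ℂ) := by
      push_cast
      rw [← hU, h1]
    exact_mod_cast this
  have h6 : U χ - V χ = u - v := by
    have : ((U χ - V χ : ℤ) : ℂ) = ((u - v : ℤ) : ℂ) := by
      push_cast
      rw [← hV, h2]
    exact_mod_cast this
  simp only [h5, h6] at h4
  refine h4 fun h7 => hd ?_
  rw [L.degree_zero_iff hN, h1]
  exact_mod_cast h7

/-- the bound for the values of `N` at `x` -/
theorem abs_le (L : Loc N P x j r) (χ : IrrCharacter N) {a : ℤ} (h1 : (χ : N → ℂ) L.xn = a) : a ^ 2 ≤ 50 := by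
  classical
  have := Fintype.ofFinite N
  have := finite_irr (G := N)
  have := Fintype.ofFinite (IrrCharacter N)
  choose U V hU hV using fun χ : IrrCharacter N => L.half_n (isIrr_isCharacter χ.2)
  have e1 : ∑ χ : IrrCharacter N, (U χ + V χ) ^ 2 = 50 := by
    have h := sum_mul_conj_eq_card L.xn L.xn
    rw [L.card_cent_x] at h
    have h3 : ∑ χ : IrrCharacter N, (χ : N → ℂ) L.xn * conj ((χ : N → ℂ) L.xn) =
        ((∑ χ : IrrCharacter N, (U χ + V χ) ^ 2 : ℤ) : ℂ) := by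
      push_cast
      refine Finset.sum_congr rfl fun χ _ => ?_
      rw [hU, map_add, map_intCast, map_intCast]
      ring
    rw [h3] at h
    exact_mod_cast h
  have h5 : U χ + V χ = a := by
    have : ((U χ + V χ : ℤ) : ℂ) = ((a : ℤ) : ℂ) := by
      push_cast
      rw [← hU, h1]
    exact_mod_cast this
  rw [← e1, ← h5]
  exact Finset.single_le_sum (f := fun χ : IrrCharacter N => (U χ + V χ) ^ 2) (fun _ _ => sq_nonneg _)
    (Finset.mem_univ χ)

theorem parity (L : Loc N P x j r) (hN : Nat.card N = 17971200)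
    (h16 : Nat.card {χ : IrrCharacter N // ¬ 25 ∣ charDegree (χ : N → ℂ)} = 16) (ψ : IrrCharacter G)
    (hirr : IsIrrCharacter N (fun n : N => (ψ : G → ℂ) n)) (hd : ¬ 25 ∣ charDegree (ψ : G → ℂ)) {a b c d : ℤ}
    (h1 : (ψ : G → ℂ) x = a + b + c + d) (h2 : (ψ : G → ℂ) (x * j ^ 2) = a - b + c - d) :
    ¬ (2 ∣ a - c ∧ 2 ∣ b - d) := by
  rintro ⟨h3, h4⟩
  have h5 := L.types hN h16 ⟨_, hirr⟩ hd (u := a + c) (v := b + d) (by
    show (ψ : G → ℂ) x = _
    rw [h1]; push_cast; ring) (by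
    show (ψ : G → ℂ) (x * j ^ 2) = _
    rw [h2]; push_cast; ring)
  obtain ⟨k, hk⟩ : 2 ∣ a + c := by omega
  obtain ⟨l, hl⟩ : 2 ∣ b + d := by omega
  rw [hk, hl] at h5
  have h6 : (2 * k + 2 * l) ^ 2 = 4 * (k + l) ^ 2 := by ring
  have h7 : (2 * k - 2 * l) ^ 2 = 4 * (k - l) ^ 2 := by ring
  rcases h5 with ⟨h8, h9⟩ | ⟨h8, h9⟩ | ⟨h8, h9⟩
  · rw [h6] at h8; omega
  · rw [h6] at h8
    have h10 : k = l := by omega
    rw [h10] at h8
    have h11 : 4 * (l + l) ^ 2 = 16 * l ^ 2 := by ring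
    rw [h11] at h8
    omega
  · rw [h6] at h8; omega

end Loc

end Cfsg.Agent.H438.TI
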