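import Mathlib

/-!
# A counting lemma for integer vectors with symmetries (helper438)

`w1, w2 : ι → ℤ` with `∑ w1² = ∑ w2² = 10`, never both even unless both are zero, with symmetries `(w1, w2) ↦ (-w1, -w2)` and
`(w1, -w2)`: all values are in `{-1, 0, 1}` and the number of non-zero vectors is `20 - 4 c`, `c` the number of `(1, 1)`.
-/

set_option autoImplicit false

namespace Cfsg.Agent.H438.TI.Comb

variable {ι : Type*} [Fintype ι] (w1 w2 : ι → ℤ)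

open Classical in
/-- the number of indices with values `s`, `t` -/
noncomputable def cn (s t : ℤ) : ℤ := ∑ i, if w1 i = s ∧ w2 i = t then 1 else 0

variable {w1 w2}

theorem cn_eq_card (s t : ℤ) : cn w1 w2 s t = (Nat.card {i // w1 i = s ∧ w2 i = t} : ℤ) := by
  classical
  unfold cn
  rw [Finset.sum_boole, Nat.card_eq_fintype_card, Fintype.card_subtype]

theorem cn_nonneg (s t : ℤ) : 0 ≤ cn w1 w2 s t := by
  rw [cn_eq_card]
  exact Int.natCast_nonneg _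

theorem bound {tw cj : ι → ι} (t1 : ∀ i, w1 (tw i) = -w1 i) (t2 : ∀ i, w2 (tw i) = -w2 i)
    (c1 : ∀ i, w1 (cj i) = w1 i) (c2 : ∀ i, w2 (cj i) = -w2 i)
    (hpar : ∀ i, (w1 i ≠ 0 ∨ w2 i ≠ 0) → ¬ (2 ∣ w1 i ∧ 2 ∣ w2 i)) (h1 : ∑ i, w1 i ^ 2 = 10) (i : ι) : |w1 i| ≤ 1 := by
  classical
  by_contra h
  push Not at h
  have h0 : w1 i ≠ 0 := by
    intro h0
    rw [h0, abs_zero] at h
    omega
  by_cases hz : w2 i = 0
  · have hodd : ¬ 2 ∣ w1 i := fun h' => hpar i (Or.inl h0) ⟨h', by rw [hz]; exact dvd_zero 2⟩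
    have h3 : 9 ≤ w1 i ^ 2 := by
      have h4 : w1 i ≤ -3 ∨ 3 ≤ w1 i := by
        rcases abs_cases (w1 i) with h5 | h5 <;> omega
      rcases h4 with h4 | h4 <;> nlinarith
    have hne : i ≠ tw i := fun h' => by
      have := congrArg w1 h'
      rw [t1] at this
      omega
    have h5 : ∑ k ∈ ({i, tw i} : Finset ι), w1 k ^ 2 ≤ ∑ k, w1 k ^ 2 :=
      Finset.sum_le_sum_of_subset_of_nonneg (Finset.subset_univ _) fun _ _ _ => sq_nonneg _
    rw [Finset.sum_pair hne, t1, h1, neg_sq] at h5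
    omega
  · have h3 : 4 ≤ w1 i ^ 2 := by
      have h4 : w1 i ≤ -2 ∨ 2 ≤ w1 i := by
        rcases abs_cases (w1 i) with h5 | h5 <;> omega
      rcases h4 with h4 | h4 <;> nlinarith
    have n1 : i ≠ tw i := fun h' => by
      have := congrArg w1 h'; rw [t1] at this; omega
    have n2 : i ≠ cj i := fun h' => by
      have := congrArg w2 h'; rw [c2] at this; omega
    have n3 : i ≠ tw (cj i) := fun h' => by
      have := congrArg w1 h'; rw [t1, c1] at this; omega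
    have n4 : tw i ≠ cj i := fun h' => by
      have := congrArg w1 h'; rw [t1, c1] at this; omega
    have n5 : tw i ≠ tw (cj i) := fun h' => by
      have := congrArg w2 h'; rw [t2, t2, c2] at this; omega
    have n6 : cj i ≠ tw (cj i) := fun h' => by
      have := congrArg w1 h'; rw [t1, c1] at this; omega
    have h5 : ∑ k ∈ ({i, tw i, cj i, tw (cj i)} : Finset ι), w1 k ^ 2 ≤ ∑ k, w1 k ^ 2 :=
      Finset.sum_le_sum_of_subset_of_nonneg (Finset.subset_univ _) fun _ _ _ => sq_nonneg _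
    rw [Finset.sum_insert (by simp [n1, n2, n3]), Finset.sum_insert (by simp [n4, n5]), Finset.sum_pair n6, t1, t1, c1,
      h1, neg_sq] at h5
    omega

theorem cn_tw {tw : ι → ι} (hi : Function.Involutive tw) (t1 : ∀ i, w1 (tw i) = -w1 i) (t2 : ∀ i, w2 (tw i) = -w2 i)
    (s t : ℤ) : cn w1 w2 (-s) (-t) = cn w1 w2 s t := by
  classical
  unfold cn
  rw [← Equiv.sum_comp (Function.Involutive.toPerm tw hi)]
  refine Finset.sum_congr rfl fun i _ => ?_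
  have h1 : (w1 (Function.Involutive.toPerm tw hi i) = -s ∧ w2 (Function.Involutive.toPerm tw hi i) = -t) ↔ (w1 i = s ∧ w2 i = t) := by
    show (w1 (tw i) = -s ∧ w2 (tw i) = -t) ↔ _
    rw [t1, t2, neg_inj, neg_inj]
  simp only [h1]

theorem cn_cj {cj : ι → ι} (hi : Function.Involutive cj) (c1 : ∀ i, w1 (cj i) = w1 i) (c2 : ∀ i, w2 (cj i) = -w2 i)
    (s t : ℤ) : cn w1 w2 s (-t) = cn w1 w2 s t := by
  classical
  unfold cn
  rw [← Equiv.sum_comp (Function.Involutive.toPerm cj hi)]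
  refine Finset.sum_congr rfl fun i _ => ?_
  have h1 : (w1 (Function.Involutive.toPerm cj hi i) = s ∧ w2 (Function.Involutive.toPerm cj hi i) = -t) ↔ (w1 i = s ∧ w2 i = t) := by
    show (w1 (cj i) = s ∧ w2 (cj i) = -t) ↔ _
    rw [c1, c2, neg_inj]
  simp only [h1]

/-- the result -/
theorem count {tw cj : ι → ι} (ht : Function.Involutive tw) (hc : Function.Involutive cj)
    (t1 : ∀ i, w1 (tw i) = -w1 i) (t2 : ∀ i, w2 (tw i) = -w2 i)
    (c1 : ∀ i, w1 (cj i) = w1 i) (c2 : ∀ i, w2 (cj i) = -w2 i)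
    (hpar : ∀ i, (w1 i ≠ 0 ∨ w2 i ≠ 0) → ¬ (2 ∣ w1 i ∧ 2 ∣ w2 i)) (h1 : ∑ i, w1 i ^ 2 = 10) (h2 : ∑ i, w2 i ^ 2 = 10) :
    (∀ i, |w1 i| ≤ 1 ∧ |w2 i| ≤ 1) ∧ (Nat.card {i // w1 i ≠ 0 ∨ w2 i ≠ 0} : ℤ) = 20 - 4 * cn w1 w2 1 1 ∧
      cn w1 w2 1 0 = 5 - 2 * cn w1 w2 1 1 ∧ cn w1 w2 (-1) 0 = 5 - 2 * cn w1 w2 1 1 ∧
      cn w1 w2 0 1 = 5 - 2 * cn w1 w2 1 1 ∧ cn w1 w2 0 (-1) = 5 - 2 * cn w1 w2 1 1 := by
  classical
  have b1 : ∀ i, |w1 i| ≤ 1 := bound t1 t2 c1 c2 hpar h1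
  have b2 : ∀ i, |w2 i| ≤ 1 := bound (w1 := w2) (w2 := w1) (tw := tw) (cj := fun i => tw (cj i)) t2 t1
    (fun i => by rw [t2, c2, neg_neg]) (fun i => by rw [t1, c1]) (fun i hi h => hpar i hi.symm ⟨h.2, h.1⟩) h2
  have hv : ∀ i, (w1 i = -1 ∨ w1 i = 0 ∨ w1 i = 1) ∧ (w2 i = -1 ∨ w2 i = 0 ∨ w2 i = 1) := fun i => by
    have := abs_le.1 (b1 i)
    have := abs_le.1 (b2 i)
    omega
  have s1 : ∑ i, w1 i ^ 2 = cn w1 w2 1 0 + cn w1 w2 (-1) 0 + cn w1 w2 1 1 + cn w1 w2 1 (-1) + cn w1 w2 (-1) 1 +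
      cn w1 w2 (-1) (-1) := by
    unfold cn
    simp only [← Finset.sum_add_distrib]
    refine Finset.sum_congr rfl fun i _ => ?_
    obtain ⟨h3 | h3 | h3, h4 | h4 | h4⟩ := hv i <;> rw [h3, h4] <;> norm_num
  have s2 : ∑ i, w2 i ^ 2 = cn w1 w2 0 1 + cn w1 w2 0 (-1) + cn w1 w2 1 1 + cn w1 w2 1 (-1) + cn w1 w2 (-1) 1 +
      cn w1 w2 (-1) (-1) := by
    unfold cn
    simp only [← Finset.sum_add_distrib]
    refine Finset.sum_congr rfl fun i _ => ?_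
    obtain ⟨h3 | h3 | h3, h4 | h4 | h4⟩ := hv i <;> rw [h3, h4] <;> norm_num
  have s3 : (Nat.card {i // w1 i ≠ 0 ∨ w2 i ≠ 0} : ℤ) = cn w1 w2 1 0 + cn w1 w2 (-1) 0 + cn w1 w2 0 1 +
      cn w1 w2 0 (-1) + cn w1 w2 1 1 + cn w1 w2 1 (-1) + cn w1 w2 (-1) 1 + cn w1 w2 (-1) (-1) := by
    rw [Nat.card_eq_fintype_card, Fintype.card_subtype]
    have h5 : ((Finset.univ.filter fun i => w1 i ≠ 0 ∨ w2 i ≠ 0).card : ℤ) =
        ∑ i, if (w1 i ≠ 0 ∨ w2 i ≠ 0) then (1 : ℤ) else 0 := by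
      rw [Finset.sum_boole]
    rw [h5]
    unfold cn
    simp only [← Finset.sum_add_distrib]
    refine Finset.sum_congr rfl fun i _ => ?_
    obtain ⟨h3 | h3 | h3, h4 | h4 | h4⟩ := hv i <;> rw [h3, h4] <;> norm_num
  have e1 := cn_tw ht t1 t2 1 0
  have e2 := cn_tw ht t1 t2 0 1
  have e3 := cn_tw ht t1 t2 1 1
  have e4 := cn_tw ht t1 t2 1 (-1)
  have e5 := cn_cj hc c1 c2 1 1
  rw [neg_zero] at e1 e2
  rw [neg_neg] at e4
  rw [s1] at h1
  rw [s2] at h2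
  refine ⟨fun i => ⟨b1 i, b2 i⟩, ?_, ?_, ?_, ?_, ?_⟩
  · rw [s3]; omega
  all_goals omega

end Cfsg.Agent.H438.TI.Comb
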