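import Mathlib
import Cfsg.Agent.H438.TI.Chr
import Cfsg.Agent.H438.TI.Comb
import Cfsg.Agent.H41.McLTwo.Cliff

/-!
# `²F₄(2)` has exactly twenty irreducible characters of degree prime to 25 (helper438, for S4819 / S4820)

`card20` : from the local data `Loc`, the sixteen characters of the Tits group and its character of degree 27 which extends.
-/

set_option autoImplicit false
set_option linter.unusedSectionVars false

namespace Cfsg.Agent.H438.TI

open Cfsg Subgroup Cfsg.Agent.Characters.Core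
open Cfsg.Agent.SmallSimple.InvolPairs (sum_mul_conj_eq_card)
open Cfsg.Agent.HKS.CosetTwo (sg sg_of_mem sg_of_notMem isIrr_mul_sg sg_mul_self isIrr_sg conj_sg)
open Cfsg.Agent.H41.McLTwo.Cliff (Van Inv restrict_of_not_van card_ext charDegree_of card_two)
open Cfsg.Agent.H438.TI.Comb (cn)
open scoped ComplexConjugate

universe u

theorem eq_of_cplx {a b c d : ℤ} (h : (a : ℂ) + b * Complex.I = c + d * Complex.I) : a = c ∧ b = d := by
  have h1 := congrArg Complex.re h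
  have h2 := congrArg Complex.im h
  simp at h1 h2
  exact ⟨by exact_mod_cast h1, by exact_mod_cast h2⟩

section two

variable {W : Type u} [Group W] [Finite W] {N : Subgroup W} [N.Normal]

/-- the characters of `W` which do not vanish off `N` -/
theorem card_not_van (hN : N.index = 2) (D : ℕ → Prop) :
    Nat.card {χ : IrrCharacter W // D (charDegree (χ : W → ℂ)) ∧ ¬ Van N χ} =
      2 * Nat.card {ψ : IrrCharacter N // D (charDegree (ψ : N → ℂ)) ∧ Inv N ψ} := by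
  classical
  have := Fintype.ofFinite W
  have := Fintype.ofFinite N
  have := finite_irr (G := W)
  have := Fintype.ofFinite (IrrCharacter W)
  have := finite_irr (G := N)
  have := Fintype.ofFinite (IrrCharacter N)
  have h1 := Finset.card_mul_eq_card_mul (fun (χ : IrrCharacter W) (ψ : IrrCharacter N) =>
      ∀ n : N, (χ : W → ℂ) n = (ψ : N → ℂ) n)
    (s := Finset.univ.filter fun χ : IrrCharacter W => D (charDegree (χ : W → ℂ)) ∧ ¬ Van N χ)
    (t := Finset.univ.filter fun ψ : IrrCharacter N => D (charDegree (ψ : N → ℂ)) ∧ Inv N ψ) (m := 1) (n := 2)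
    (by
      intro χ hχ
      obtain ⟨-, hχD, hχv⟩ := Finset.mem_filter.1 hχ
      obtain ⟨ψ, hψ, hr⟩ := restrict_of_not_van hN hχv
      rw [Finset.card_eq_one]
      refine ⟨ψ, ?_⟩
      ext ζ
      rw [Finset.mem_bipartiteAbove, Finset.mem_filter, Finset.mem_singleton]
      constructor
      · rintro ⟨-, h⟩
        apply Subtype.ext
        funext n
        rw [← h, hr]
      · rintro rfl
        refine ⟨⟨Finset.mem_univ _, ?_, hψ⟩, hr⟩
        rw [← charDegree_of (χ := (χ : W → ℂ)) (ψ := (ζ : N → ℂ)) (by simpa using hr 1)]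
        exact hχD)
    (by
      intro ψ hψ
      obtain ⟨-, hψD, hψi⟩ := Finset.mem_filter.1 hψ
      obtain ⟨χ, χ', hne, hv, hv', hall⟩ := card_ext hN hψi
      rw [Finset.card_eq_two]
      refine ⟨χ, χ', hne, ?_⟩
      ext η
      rw [Finset.mem_bipartiteBelow, Finset.mem_filter, Finset.mem_insert, Finset.mem_singleton]
      constructor
      · rintro ⟨-, h⟩
        exact (hall η).1 h
      · intro h
        have hr := (hall η).2 h
        refine ⟨⟨Finset.mem_univ _, ?_, ?_⟩, hr⟩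
        · rw [charDegree_of (χ := (η : W → ℂ)) (ψ := (ψ : N → ℂ)) (by simpa using hr 1)]
          exact hψD
        · rcases h with rfl | rfl
          · exact hv
          · exact hv')
  rw [Nat.card_eq_fintype_card, Nat.card_eq_fintype_card, Fintype.card_subtype, Fintype.card_subtype]
  omega

end two

variable {G : Type u} [Group G] [Finite G] {N P : Subgroup G} {x j r : G}

/-- the data of the counting argument -/
structure Dt (N : Subgroup G) (x j : G) (w1 w2 A : IrrCharacter G → ℤ) (tw cj : IrrCharacter G → IrrCharacter G)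
    (hi : N.index = 2) : Prop where
  hA : ∀ ψ : IrrCharacter G, (ψ : G → ℂ) x = A ψ
  hw : ∀ ψ : IrrCharacter G, (ψ : G → ℂ) (x * j) = w1 ψ + w2 ψ * Complex.I
  par : ∀ ψ, ∃ k, A ψ = w1 ψ + w2 ψ + 2 * k
  tw_def : ∀ ψ : IrrCharacter G, (tw ψ : G → ℂ) = (ψ : G → ℂ) * sg hi
  cj_def : ∀ ψ : IrrCharacter G, ∀ g, (cj ψ : G → ℂ) g = conj ((ψ : G → ℂ) g)

namespace Loc

theorem exists_dt (L : Loc N P x j r) : ∃ w1 w2 A tw cj, Dt N x j w1 w2 A tw cj L.index ∧
    (Nat.card N = 17971200 → Nat.card {χ : IrrCharacter N // ¬ 25 ∣ charDegree (χ : N → ℂ)} = 16 →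
      ∀ ψ : IrrCharacter G, IsIrrCharacter N (fun n : N => (ψ : G → ℂ) n) → ¬ 25 ∣ charDegree (ψ : G → ℂ) →
      ¬ (2 ∣ w1 ψ ∧ 2 ∣ w2 ψ)) := by
  choose a b c d h1 h2 h3 h4 using fun ψ : IrrCharacter G =>
    quad (isIrr_isCharacter ψ.2) L.x5 L.j4 L.comm L.rx L.rj
  refine ⟨fun ψ => a ψ - c ψ, fun ψ => b ψ - d ψ, fun ψ => a ψ + b ψ + c ψ + d ψ,
    fun ψ => ⟨_, isIrr_mul_sg L.index ψ.2⟩, fun ψ => ⟨_, isIrr_conj ψ.2⟩, ⟨?_, ?_, ?_, ?_, ?_⟩, ?_⟩
  · intro ψ
    rw [h1]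
    push_cast
    ring
  · intro ψ
    rw [h2]
  · intro ψ
    exact ⟨c ψ + d ψ, by ring⟩
  · intro ψ
    rfl
  · intro ψ g
    rfl
  · intro hN h16 ψ hirr hd
    exact L.parity hN h16 ψ hirr hd (h1 ψ) (h3 ψ)

end Loc

namespace Dt

variable {w1 w2 A : IrrCharacter G → ℤ} {tw cj : IrrCharacter G → IrrCharacter G} {hi : N.index = 2}

theorem tw_tw (D : Dt N x j w1 w2 A tw cj hi) : Function.Involutive tw := fun ψ => by
  apply Subtype.ext
  rw [D.tw_def, D.tw_def]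
  funext g
  simp only [Pi.mul_apply]
  rw [mul_assoc, sg_mul_self, mul_one]

theorem cj_cj (D : Dt N x j w1 w2 A tw cj hi) : Function.Involutive cj := fun ψ => by
  apply Subtype.ext
  funext g
  rw [D.cj_def, D.cj_def, Complex.conj_conj]

theorem w_tw (D : Dt N x j w1 w2 A tw cj hi) (hxj : x * j ∉ N) (ψ : IrrCharacter G) :
    w1 (tw ψ) = -w1 ψ ∧ w2 (tw ψ) = -w2 ψ := by
  have h1 : (tw ψ : G → ℂ) (x * j) = -(ψ : G → ℂ) (x * j) := by
    rw [D.tw_def, Pi.mul_apply, sg_of_notMem hi hxj]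
    ring
  rw [D.hw, D.hw] at h1
  apply eq_of_cplx
  rw [h1]
  push_cast
  ring

theorem w_cj (D : Dt N x j w1 w2 A tw cj hi) (ψ : IrrCharacter G) :
    w1 (cj ψ) = w1 ψ ∧ w2 (cj ψ) = -w2 ψ := by
  have h1 : (cj ψ : G → ℂ) (x * j) = conj ((ψ : G → ℂ) (x * j)) := D.cj_def ψ _
  rw [D.hw, D.hw, map_add, map_mul, Complex.conj_I, map_intCast, map_intCast] at h1
  apply eq_of_cplx
  rw [h1]
  push_cast
  ring

theorem sums [Fintype (IrrCharacter G)] (D : Dt N x j w1 w2 A tw cj hi) (L : Loc N P x j r) :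
    ∑ ψ, w1 ψ ^ 2 = 10 ∧ ∑ ψ, w2 ψ ^ 2 = 10 := by
  classical
  have := Fintype.ofFinite G
  have e1 := sum_mul_conj_eq_card (x * j) (x * j)
  rw [L.card_cent_xj] at e1
  have e2 := sum_mul_conj_eq_card (x * j) (x * j)⁻¹
  have := L.no_inv
  rw [Nat.card_of_isEmpty] at e2
  have f1 : ∑ ψ : IrrCharacter G, (ψ : G → ℂ) (x * j) * conj ((ψ : G → ℂ) (x * j)) =
      ((∑ ψ, w1 ψ ^ 2 + ∑ ψ, w2 ψ ^ 2 : ℤ) : ℂ) := by
    push_cast
    rw [← Finset.sum_add_distrib]
    refine Finset.sum_congr rfl fun ψ _ => ?_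
    rw [D.hw, map_add, map_mul, Complex.conj_I, map_intCast, map_intCast]
    linear_combination (-(w2 ψ : ℂ) ^ 2) * Complex.I_sq
  have f2 : ∑ ψ : IrrCharacter G, (ψ : G → ℂ) (x * j) * conj ((ψ : G → ℂ) (x * j)⁻¹) =
      ((∑ ψ, w1 ψ ^ 2 - ∑ ψ, w2 ψ ^ 2 : ℤ) : ℂ) + ((2 * ∑ ψ, w1 ψ * w2 ψ : ℤ) : ℂ) * Complex.I := by
    push_cast
    rw [← Finset.sum_sub_distrib, Finset.mul_sum, Finset.sum_mul, ← Finset.sum_add_distrib]
    refine Finset.sum_congr rfl fun ψ _ => ?_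
    rw [isCharacter_apply_inv (isIrr_isCharacter ψ.2), Complex.conj_conj, D.hw]
    linear_combination ((w2 ψ : ℂ) ^ 2) * Complex.I_sq
  rw [f1] at e1
  rw [f2] at e2
  have e3 : ∑ ψ, w1 ψ ^ 2 + ∑ ψ, w2 ψ ^ 2 = 20 := by exact_mod_cast e1
  have e4 := (eq_of_cplx (a := ∑ ψ, w1 ψ ^ 2 - ∑ ψ, w2 ψ ^ 2) (b := 2 * ∑ ψ, w1 ψ * w2 ψ) (c := 0) (d := 0)
    (by rw [e2]; simp)).1
  omega

open Classical in
/-- a class with one element -/
theorem sum_single [Fintype (IrrCharacter G)] {s t : ℤ} (h1 : cn w1 w2 s t = 1) {ψ₀ : IrrCharacter G}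
    (h0 : w1 ψ₀ = s ∧ w2 ψ₀ = t) (f : IrrCharacter G → ℤ) :
    ∑ ψ, f ψ * (if w1 ψ = s ∧ w2 ψ = t then 1 else 0) = f ψ₀ := by
  rw [Comb.cn_eq_card] at h1
  have h2 : Nat.card {ψ : IrrCharacter G // w1 ψ = s ∧ w2 ψ = t} = 1 := by exact_mod_cast h1
  have h3 := (Nat.card_eq_one_iff_unique.1 h2).1
  rw [Finset.sum_eq_single ψ₀]
  · rw [if_pos h0, mul_one]
  · intro ψ _ hne
    rw [if_neg, mul_zero]
    intro h4
    exact hne (congrArg Subtype.val (h3.elim ⟨ψ, h4⟩ ⟨ψ₀, h0⟩))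
  · intro h
    exact absurd (Finset.mem_univ _) h

theorem w_one (D : Dt N x j w1 w2 A tw cj hi) : w1 ⟨1, isIrr_one⟩ = 1 ∧ w2 ⟨1, isIrr_one⟩ = 0 := by
  have h1 := D.hw ⟨1, isIrr_one⟩
  apply eq_of_cplx
  rw [← h1]
  simp

/-- the case `c = 2` is impossible -/
theorem ne_two [Fintype (IrrCharacter G)] (D : Dt N x j w1 w2 A tw cj hi) (hxj : x * j ∉ N)
    (hv : ∀ ψ, |w1 ψ| ≤ 1 ∧ |w2 ψ| ≤ 1) (h11 : cn w1 w2 1 1 = 2) (h10 : cn w1 w2 1 0 = 1)
    (hm10 : cn w1 w2 (-1) 0 = 1) (h01 : cn w1 w2 0 1 = 1) (h0m1 : cn w1 w2 0 (-1) = 1) : False := by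
  classical
  have := Fintype.ofFinite G
  -- `β` and `α`
  obtain ⟨β, hβ⟩ : ∃ β : IrrCharacter G, w1 β = 1 ∧ w2 β = 1 := by
    rw [Comb.cn_eq_card] at h11
    have h2 : Nat.card {ψ : IrrCharacter G // w1 ψ = 1 ∧ w2 ψ = 1} ≠ 0 := by
      intro h0
      rw [h0] at h11
      norm_num at h11
    have h3 : Nonempty {ψ : IrrCharacter G // w1 ψ = 1 ∧ w2 ψ = 1} := (Nat.card_ne_zero.1 h2).1
    exact ⟨h3.some.1, h3.some.2⟩
  obtain ⟨α, hα⟩ : ∃ α : IrrCharacter G, w1 α = 0 ∧ w2 α = 1 := by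
    rw [Comb.cn_eq_card] at h01
    have h2 : Nat.card {ψ : IrrCharacter G // w1 ψ = 0 ∧ w2 ψ = 1} ≠ 0 := by
      intro h0
      rw [h0] at h01
      norm_num at h01
    have h3 : Nonempty {ψ : IrrCharacter G // w1 ψ = 0 ∧ w2 ψ = 1} := (Nat.card_ne_zero.1 h2).1
    exact ⟨h3.some.1, h3.some.2⟩
  -- `θ`
  set θ : G → ℂ := fun g => (β : G → ℂ) g * conj ((β : G → ℂ) g) with hθ
  have hθc : IsCharacter G θ := isCharacter_mul (isIrr_isCharacter β.2) (isCharacter_conj (isIrr_isCharacter β.2))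
  choose m hm using fun ψ : IrrCharacter G => classInner_isNat hθc (isIrr_isCharacter ψ.2)
  have hsum := classFunction_eq_sum (isCharacter_isClassFunction hθc)
  have hx := congrFun hsum x
  rw [Finset.sum_apply] at hx
  simp only [Pi.smul_apply, smul_eq_mul, hm, D.hA] at hx
  have hx2 : θ x = ((A β * A β : ℤ) : ℂ) := by
    rw [hθ]
    simp only [D.hA, map_intCast]
    push_cast
    ring
  rw [hx2] at hx
  have hx3 : A β * A β = ∑ ψ, (m ψ : ℤ) * A ψ := by exact_mod_cast hx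
  -- parity
  have hpar : ∀ ψ, ∃ k : ℤ, A ψ = (if w1 ψ = 1 ∧ w2 ψ = 0 then 1 else 0) + (if w1 ψ = -1 ∧ w2 ψ = 0 then 1 else 0) +
      (if w1 ψ = 0 ∧ w2 ψ = 1 then 1 else 0) + (if w1 ψ = 0 ∧ w2 ψ = -1 then 1 else 0) + 2 * k := by
    intro ψ
    obtain ⟨k, hk⟩ := D.par ψ
    have h1 := abs_le.1 (hv ψ).1
    have h2 := abs_le.1 (hv ψ).2
    have h3 : (w1 ψ = -1 ∨ w1 ψ = 0 ∨ w1 ψ = 1) ∧ (w2 ψ = -1 ∨ w2 ψ = 0 ∨ w2 ψ = 1) := by omega
    obtain ⟨h3 | h3 | h3, h4 | h4 | h4⟩ := h3 <;> rw [h3, h4] at hk ⊢ <;> norm_num at hk ⊢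
    · exact ⟨k - 1, by omega⟩
    · exact ⟨k - 1, by omega⟩
    · exact ⟨k, by omega⟩
    · exact ⟨k - 1, by omega⟩
    · exact ⟨k, by omega⟩
    · exact ⟨k, by omega⟩
    · exact ⟨k, by omega⟩
    · exact ⟨k, by omega⟩
    · exact ⟨k + 1, by omega⟩
  choose k hk using hpar
  have hx4 : ∑ ψ, (m ψ : ℤ) * A ψ = m ⟨1, isIrr_one⟩ + m (tw ⟨1, isIrr_one⟩) + m α + m (cj α) + 2 * ∑ ψ, (m ψ : ℤ) * k ψ := by
    have t1 := D.w_tw hxj ⟨1, isIrr_one⟩
    rw [D.w_one.1, D.w_one.2, neg_zero] at t1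
    have t2 := D.w_cj α
    rw [hα.1, hα.2] at t2
    rw [← sum_single h10 D.w_one (fun ψ => (m ψ : ℤ)), ← sum_single hm10 t1 (fun ψ => (m ψ : ℤ)),
      ← sum_single h01 hα (fun ψ => (m ψ : ℤ)), ← sum_single h0m1 t2 (fun ψ => (m ψ : ℤ)), Finset.mul_sum,
      ← Finset.sum_add_distrib, ← Finset.sum_add_distrib, ← Finset.sum_add_distrib, ← Finset.sum_add_distrib]
    refine Finset.sum_congr rfl fun ψ _ => ?_
    rw [hk ψ]
    ring
  have m1 : m ⟨1, isIrr_one⟩ = 1 := by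
    have h1 := hm ⟨1, isIrr_one⟩
    have h2 : classInner θ (1 : G → ℂ) = 1 := by
      rw [← classInner_irr_self β.2, classInner_def, classInner_def]
      congr 1
      refine Finset.sum_congr rfl fun g _ => ?_
      simp [hθ]
    rw [h2] at h1
    exact_mod_cast h1.symm
  have m2 : m (tw ⟨1, isIrr_one⟩) = 0 := by
    have h1 := hm (tw ⟨1, isIrr_one⟩)
    have hne : (β : G → ℂ) ≠ (tw β : G → ℂ) := by
      intro h
      have h2 := (D.w_tw hxj β).1
      rw [← Subtype.ext h, hβ.1] at h2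
      norm_num at h2
    have h2 : classInner θ (tw ⟨1, isIrr_one⟩ : G → ℂ) = 0 := by
      rw [← classInner_irr_ne β.2 (tw β).2 hne, classInner_def, classInner_def]
      congr 1
      refine Finset.sum_congr rfl fun g _ => ?_
      rw [D.tw_def, D.tw_def]
      simp only [hθ, Pi.mul_apply, Pi.one_apply, map_mul, one_mul]
      ring
    rw [h2] at h1
    exact_mod_cast h1.symm
  have m3 : m (cj α) = m α := by
    have h1 := hm (cj α)
    have h2 := hm α
    have h3 : classInner θ (cj α : G → ℂ) = conj (classInner θ (α : G → ℂ)) := by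
      rw [classInner_def, classInner_def, map_mul, map_inv₀, map_natCast, map_sum]
      congr 1
      refine Finset.sum_congr rfl fun g _ => ?_
      rw [D.cj_def]
      simp only [hθ, map_mul, Complex.conj_conj]
      ring
    rw [h3, h2, Complex.conj_natCast] at h1
    exact_mod_cast h1.symm
  obtain ⟨l, hl⟩ := D.par β
  rw [hβ.1, hβ.2] at hl
  have hl2 : A β * A β = 2 * (A β * (1 + l)) := by
    have : A β = 2 * (1 + l) := by omega
    calc A β * A β = A β * (2 * (1 + l)) := by rw [← this]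
      _ = 2 * (A β * (1 + l)) := by ring
  rw [hl2, hx4, m1, m2, m3] at hx3
  omega

end Dt

/-- **Twenty characters.** -/
theorem card20 (L : Loc N P x j r) (hN : Nat.card N = 17971200)
    (h16 : Nat.card {χ : IrrCharacter N // ¬ 25 ∣ charDegree (χ : N → ℂ)} = 16)
    (h27 : ∃ ψ : IrrCharacter G, IsIrrCharacter N (fun n : N => (ψ : G → ℂ) n) ∧ (ψ : G → ℂ) 1 = 27) :
    Nat.card {χ : IrrCharacter G // ¬ 25 ∣ charDegree (χ : G → ℂ)} = 20 := by
  classical
  have hnorm : N.Normal := Subgroup.normal_of_index_eq_two L.index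
  have := finite_irr (G := G)
  have := Fintype.ofFinite (IrrCharacter G)
  obtain ⟨w1, w2, A, tw, cj, D, hpar⟩ := L.exists_dt
  have hpar := hpar hN h16
  have hxj := L.xj_notMem
  have hcG : 5 ^ 2 ∣ Nat.card G ∧ ¬ 5 ^ 3 ∣ Nat.card G := by
    rw [← N.card_mul_index, hN, L.index]
    constructor <;> norm_num
  -- the characters with non-zero value at `x j`
  have hne0 : ∀ ψ : IrrCharacter G, (w1 ψ ≠ 0 ∨ w2 ψ ≠ 0) ↔ (ψ : G → ℂ) (x * j) ≠ 0 := by
    intro ψ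
    constructor
    · intro h h0
      rw [D.hw] at h0
      have h1 := eq_of_cplx (c := 0) (d := 0) (by rw [h0]; simp)
      rcases h with h | h
      · exact h h1.1
      · exact h h1.2
    · intro h
      by_contra h4
      push Not at h4
      apply h
      rw [D.hw, h4.1, h4.2]
      simp
  have hiff : ∀ ψ : IrrCharacter G, (w1 ψ ≠ 0 ∨ w2 ψ ≠ 0) ↔
      (¬ 25 ∣ charDegree (ψ : G → ℂ) ∧ ¬ Van N ψ) := by
    intro ψ
    constructor
    · intro h
      rw [hne0] at h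
      refine ⟨fun h25 => h (vanish hcG.1 hcG.2 ψ h25 (by rw [L.order]; norm_num)), fun hv => h (hv _ hxj)⟩
    · rintro ⟨h1, h2⟩
      obtain ⟨χ, -, hχ⟩ := restrict_of_not_van L.index h2
      have h3 : IsIrrCharacter N (fun n : N => (ψ : G → ℂ) n) := by
        have : (fun n : N => (ψ : G → ℂ) n) = (χ : N → ℂ) := funext hχ
        rw [this]
        exact χ.2
      by_contra h4
      push Not at h4
      refine hpar ψ h3 h1 ⟨?_, ?_⟩
      · rw [h4.1]; exact dvd_zero 2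
      · rw [h4.2]; exact dvd_zero 2
  have hpar' : ∀ ψ, (w1 ψ ≠ 0 ∨ w2 ψ ≠ 0) → ¬ (2 ∣ w1 ψ ∧ 2 ∣ w2 ψ) := by
    intro ψ h
    obtain ⟨h1, h2⟩ := (hiff ψ).1 h
    obtain ⟨χ, -, hχ⟩ := restrict_of_not_van L.index h2
    have h3 : IsIrrCharacter N (fun n : N => (ψ : G → ℂ) n) := by
      have : (fun n : N => (ψ : G → ℂ) n) = (χ : N → ℂ) := funext hχ
      rw [this]
      exact χ.2
    exact hpar ψ h3 h1
  obtain ⟨s1, s2⟩ := D.sums L
  obtain ⟨hv, hcard, h10, hm10, h01, h0m1⟩ := Comb.count D.tw_tw D.cj_cj (fun ψ => (D.w_tw hxj ψ).1)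
    (fun ψ => (D.w_tw hxj ψ).2) (fun ψ => (D.w_cj ψ).1) (fun ψ => (D.w_cj ψ).2) hpar' s1 s2
  -- `1 ≤ c ≤ 2`
  have hpos : ∀ {s t : ℤ} (ψ : IrrCharacter G), w1 ψ = s → w2 ψ = t → 1 ≤ cn w1 w2 s t := by
    intro s t ψ hs ht
    rw [Comb.cn_eq_card]
    have h1 : 0 < Nat.card {ψ : IrrCharacter G // w1 ψ = s ∧ w2 ψ = t} :=
      Nat.card_pos_iff.2 ⟨⟨⟨ψ, hs, ht⟩⟩, inferInstance⟩
    exact_mod_cast h1
  have hc2 : cn w1 w2 1 1 ≤ 2 := by
    have := hpos ⟨1, isIrr_one⟩ D.w_one.1 D.w_one.2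
    omega
  have hc1 : 1 ≤ cn w1 w2 1 1 := by
    obtain ⟨ψ, hirr, hdeg⟩ := h27
    have hd : charDegree (ψ : G → ℂ) = 27 := charDegree_of_eq (by rw [hdeg]; norm_num)
    have h25 : ¬ 25 ∣ charDegree (ψ : G → ℂ) := by rw [hd]; norm_num
    have hp := hpar ψ hirr h25
    -- `A ψ = 2`
    have hA : A ψ = 2 := by
      obtain ⟨n, hn⟩ := L.mod25 (isIrr_isCharacter hirr)
      have e1 : (ψ : G → ℂ) ((1 : N) : G) = 27 := hdeg
      have e2 : (ψ : G → ℂ) ((L.xn : N) : G) = A ψ := D.hA ψ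
      rw [e1, e2] at hn
      have e3 : 27 + 24 * A ψ = 25 * n := by exact_mod_cast hn
      have e4 : A ψ ^ 2 ≤ 50 := L.abs_le ⟨_, hirr⟩ e2
      have e5 : |A ψ| ≤ 7 := by
        by_contra hlt
        push Not at hlt
        have : 64 ≤ A ψ ^ 2 := by
          rw [← sq_abs]; nlinarith
        omega
      have e6 := abs_le.1 e5
      omega
    obtain ⟨k, hk⟩ := D.par ψ
    rw [hA] at hk
    have b1 := abs_le.1 (hv ψ).1
    have b2 := abs_le.1 (hv ψ).2
    have e7 : (w1 ψ = 1 ∨ w1 ψ = -1) ∧ (w2 ψ = 1 ∨ w2 ψ = -1) := by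
      by_cases h0 : w1 ψ = 0
      · exfalso
        have h0' : w2 ψ = 0 := by omega
        refine hp ⟨?_, ?_⟩
        · rw [h0]; exact dvd_zero 2
        · rw [h0']; exact dvd_zero 2
      · have h0' : w2 ψ ≠ 0 := by omega
        omega
    obtain ⟨h1 | h1, h2 | h2⟩ := e7
    · exact hpos ψ h1 h2
    · have h3 := D.w_cj ψ
      rw [h1, h2, neg_neg] at h3
      exact hpos (cj ψ) h3.1 h3.2
    · have h3 := D.w_cj (tw ψ)
      have h4 := D.w_tw hxj ψ
      rw [h1, h2, neg_neg] at h4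
      rw [h4.1, h4.2, neg_neg] at h3
      exact hpos (cj (tw ψ)) h3.1 h3.2
    · have h4 := D.w_tw hxj ψ
      rw [h1, h2, neg_neg] at h4
      exact hpos (tw ψ) h4.1 h4.2
  have hcne : cn w1 w2 1 1 ≠ 2 := by
    intro h
    exact D.ne_two hxj hv h (by omega) (by omega) (by omega) (by omega)
  have hc : cn w1 w2 1 1 = 1 := by omega
  have h16' : Nat.card {ψ : IrrCharacter G // w1 ψ ≠ 0 ∨ w2 ψ ≠ 0} = 16 := by
    have : (Nat.card {ψ : IrrCharacter G // w1 ψ ≠ 0 ∨ w2 ψ ≠ 0} : ℤ) = 16 := by omega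
    exact_mod_cast this
  have hS : Nat.card {ψ : IrrCharacter G // ¬ 25 ∣ charDegree (ψ : G → ℂ) ∧ ¬ Van N ψ} = 16 := by
    rw [← h16']
    exact Nat.card_congr (Equiv.subtypeEquivRight fun ψ => (hiff ψ).symm)
  have hI := card_not_van (W := G) (N := N) L.index (fun d => ¬ 25 ∣ d)
  rw [hS] at hI
  have h2 := card_two (W := G) (N := N) L.index (fun d => ¬ 25 ∣ d) (fun n => by
    rw [not_iff_not]
    exact (Nat.Coprime.dvd_mul_left (by norm_num)))
  have := finite_irr (G := N)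
  have hsplit : Nat.card {ψ : IrrCharacter N // ¬ 25 ∣ charDegree (ψ : N → ℂ)} =
      Nat.card {ψ : IrrCharacter N // ¬ 25 ∣ charDegree (ψ : N → ℂ) ∧ Inv N ψ} +
        Nat.card {ψ : IrrCharacter N // ¬ 25 ∣ charDegree (ψ : N → ℂ) ∧ ¬ Inv N ψ} := by
    have := Fintype.ofFinite (IrrCharacter N)
    rw [Nat.card_eq_fintype_card, Nat.card_eq_fintype_card, Nat.card_eq_fintype_card, Fintype.card_subtype,
      Fintype.card_subtype, Fintype.card_subtype, ← Finset.filter_filter, ← Finset.filter_filter]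
    exact (Finset.card_filter_add_card_filter_not _).symm
  omega

end Cfsg.Agent.H438.TI
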